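import Groth.Agent.H1Res.Smooth
import Groth.Agent.QCoh.Support
import Groth.Agent.S1109
import Groth.Agent.S8855
import Groth.Agent.WeilExt.Basic

/-!
# Factorisations through smooth quasi-projective schemes over a base with the resolution property
-/

set_option autoImplicit false
set_option linter.style.haveILetI false
set_option backward.isDefEq.respectTransparency false
set_option backward.isDefEq.respectTransparency.types false
set_option maxHeartbeats 1000000

universe u

open CategoryTheory CategoryTheory.Limits AlgebraicGeometry TopologicalSpace Opposite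
open scoped HomogeneousIdeal

noncomputable section

namespace Groth.Agent.H1Res

open Groth.Agent

variable {X Y : Scheme.{u}}

theorem isFT_of_isFinLocFree {E : Y.Modules} (h : FlatMod.IsFinLocFree E) : CohB1.IsFT E :=
  QCoh.isFT_of_isFP (QCoh.isFP_of_isFinLocFree h)

/-- A projective morphism to a scheme with the resolution property is a closed subscheme of the bundle of a
finite locally free module. -/
theorem exists_bundle_finLocFree (hres : PerfAux.HasResolutionProperty Y) {f : X ⟶ Y} (hf : RelProj.IsProjective f) :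
    ∃ (E : Y.Modules) (A : SymX.Bundle E) (i : X ⟶ A.P),
      FlatMod.IsFinLocFree E ∧ IsClosedImmersion i ∧ i ≫ A.p = f := by
  obtain ⟨𝒮, P, p, chart, e, hgen, hft, hP, rfl⟩ := hf
  obtain ⟨E₀, u₀, hE₀, hE₀ft, hu⟩ := SymX.exists_degOneModule 𝒮 hft
  obtain ⟨E, π, hEf, hπ⟩ := hres E₀ hE₀ hE₀ft
  have hE : Coh.IsQCoh E := QCoh.isQCoh_of_isFinLocFree hEf
  obtain ⟨A⟩ := SymX.nonempty_bundle hE
  obtain ⟨v, hv, -⟩ := A.symAlg.1 𝒮.toQCAlg (π ≫ u₀)
  have hvj : ∀ (U : Y.Opens) (x : Γ(E, U)),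
      (v.hom.app (op U)).hom (A.j.app U x) = (show 𝒮.presheaf.obj (op U) from u₀.app U (π.app U x)) :=
    fun U x => congrArg (fun χ : E ⟶ 𝒮.toModule => χ.app U x) hv
  have hgr : RelProj.IsGradedHom v :=
    SymX.isGradedHom_of_chartwise 𝒮 A.C fun U hU x => by rw [hvj U x]; exact (hu U hU).1 _
  have h1 : ∀ (U : Y.Opens) (hU : IsAffineOpen U), ∀ x ∈ 𝒮.deg U hU 1,
      ∃ a ∈ A.𝒮.deg U hU 1, (v.hom.app (op U)).hom a = x := fun U hU x hx => by
    obtain ⟨m, hm⟩ := (hu U hU).2 x hx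
    obtain ⟨m', rfl⟩ := QCoh.app_surjective_of_epi hE hE₀ π hU m
    exact ⟨A.j.app U m', A.symAlg.2 U hU m', (hvj U m').trans hm⟩
  have hirr : ∀ (U : Y.Opens) (hU : IsAffineOpen U),
      (𝒮.deg U hU)₊ ≤ ((A.𝒮.deg U hU)₊).map (RelProj.gradedHomAt v hgr U hU) := fun U hU => by
    show ((𝒮.deg U hU)₊).toIdeal ≤ Ideal.map (RelProj.gradedHomAt v hgr U hU) ((A.𝒮.deg U hU)₊).toIdeal
    rw [RelTildeX.irrelevant_eq_span_deg_one hgen U hU]
    refine Ideal.span_le.2 fun x hx => ?_
    obtain ⟨a, ha, hax⟩ := h1 U hU x hx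
    rw [← hax]
    exact Ideal.mem_map_of_mem _ (HomogeneousIdeal.mem_irrelevant_of_mem _ one_pos ha)
  obtain ⟨g, hg, -⟩ := Proj16.existsUnique_isRelProjMap v hgr hirr A.isRelProj hP
  haveI : IsClosedImmersion g := SymX.isClosedImmersion_relProjMap_pos hgen v hgr h1 A.isRelProj hP hg
  refine ⟨E, A, e.hom ≫ g, hEf, inferInstance, ?_⟩
  rw [Category.assoc, Proj16.relProjMap_comp A.isRelProj hP hg]

theorem hasResolutionProperty_of_regular [IsNoetherian Y] [Y.IsSeparated]
    (hY : ∀ y : Y, IsRegularLocalRing (Y.presheaf.stalk y)) : PerfAux.HasResolutionProperty Y :=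
  S1109.result Y hY fun _ _ hU hV => hU.inf hV

/-- A projective morphism to a regular Noetherian separated scheme factors through a closed immersion into a
smooth projective scheme. -/
theorem exists_smooth_projective [IsNoetherian Y] [Y.IsSeparated]
    (hY : ∀ y : Y, IsRegularLocalRing (Y.presheaf.stalk y)) {f : X ⟶ Y} (hf : RelProj.IsProjective f) :
    ∃ (P : Scheme.{u}) (i : X ⟶ P) (g : P ⟶ Y),
      IsClosedImmersion i ∧ Smooth g ∧ RelProj.IsProjective g ∧ i ≫ g = f := by
  obtain ⟨E, A, i, hE, hi, hf⟩ := exists_bundle_finLocFree (hasResolutionProperty_of_regular hY) hf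
  exact ⟨A.P, i, A.p, hi, smooth_bundle A hE,
    SymX.isProjective_of_bundle A (QCoh.isQCoh_of_isFinLocFree hE) (isFT_of_isFinLocFree hE) (𝟙 _) (Category.id_comp _), hf⟩

/-- An open subscheme of a closed subscheme is closed in an open subscheme. -/
theorem exists_open_closed {X Z P : Scheme.{u}} (v : X ⟶ Z) [IsOpenImmersion v] (i : Z ⟶ P) [IsClosedImmersion i] :
    ∃ (W : P.Opens) (k : X ⟶ W), IsClosedImmersion k ∧ k ≫ W.ι = v ≫ i := by
  let W : P.Opens := ⟨(i.base '' (Set.range v.base)ᶜ)ᶜ,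
    (i.isClosedEmbedding.isClosedMap _ v.isOpenEmbedding.isOpen_range.isClosed_compl).isOpen_compl⟩
  have hle : Set.range (v ≫ i).base ⊆ Set.range W.ι.base := by
    rw [Scheme.Opens.range_ι]
    rintro _ ⟨x, rfl⟩ ⟨z, hz, hzx⟩
    exact hz ⟨x, i.isClosedEmbedding.injective hzx.symm⟩
  let k : X ⟶ W := IsOpenImmersion.lift W.ι (v ≫ i) hle
  have hk : k ≫ W.ι = v ≫ i := IsOpenImmersion.lift_fac _ _ _
  haveI : IsPreimmersion (k ≫ W.ι) := by rw [hk]; infer_instance
  haveI : IsPreimmersion k := IsPreimmersion.of_comp k W.ι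
  refine ⟨W, k, IsClosedImmersion.of_isPreimmersion k ?_, hk⟩
  have hr : Set.range k.base = W.ι.base ⁻¹' (Set.range i.base) := by
    ext w
    constructor
    · rintro ⟨x, rfl⟩
      exact ⟨v.base x, (congr($(hk).base x)).symm⟩
    · rintro ⟨z, hz⟩
      by_cases hzv : z ∈ Set.range v.base
      · obtain ⟨x, rfl⟩ := hzv
        exact ⟨x, W.ι.isOpenEmbedding.injective ((congr($(hk).base x)).trans hz)⟩
      · exact absurd ⟨z, hzv, hz⟩ (show W.ι.base w ∈ W from w.2)
  rw [hr]
  exact i.isClosedEmbedding.isClosed_range.preimage W.ι.continuous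

theorem exists_smooth_quasiProjective [IsNoetherian Y] [Y.IsSeparated]
    (hY : ∀ y : Y, IsRegularLocalRing (Y.presheaf.stalk y)) (f : X ⟶ Y)
    (hf : ∃ (Z : Scheme.{u}) (v : X ⟶ Z) (q : Z ⟶ Y), IsOpenImmersion v ∧ RelProj.IsProjective q ∧ v ≫ q = f) :
    ∃ (W : Scheme.{u}) (i : X ⟶ W) (p : W ⟶ Y), IsClosedImmersion i ∧ Smooth p ∧
      (∃ (P : Scheme.{u}) (v : W ⟶ P) (q : P ⟶ Y), IsOpenImmersion v ∧ RelProj.IsProjective q ∧ v ≫ q = p) ∧
      i ≫ p = f := by
  obtain ⟨Z, v, q, hv, hq, rfl⟩ := hf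
  obtain ⟨P, i, g, hi, hg, hgp, rfl⟩ := exists_smooth_projective hY hq
  obtain ⟨W, k, hk, hkW⟩ := exists_open_closed v i
  exact ⟨W, k, W.ι ≫ g, hk, inferInstance, ⟨P, W.ι, g, inferInstance, hgp, rfl⟩,
    by rw [← Category.assoc, hkW, Category.assoc]⟩

theorem isRegularImmersion [IsNoetherian Y] (hY : ∀ y : Y, IsRegularLocalRing (Y.presheaf.stalk y))
    {W : Scheme.{u}} (i : X ⟶ W) [IsClosedImmersion i] (p : W ⟶ Y) [Smooth p]
    (hX : ∀ x : X, IsRegularLocalRing (X.presheaf.stalk x)) :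
    RegImm.IsRegularImmersion RegImm.Kind.regular i := by
  haveI : IsLocallyNoetherian W := LocallyOfFiniteType.isLocallyNoetherian p
  haveI : IsLocallyNoetherian X := LocallyOfFiniteType.isLocallyNoetherian i
  exact S8855.result i (fun w => WeilExt.isRegularLocalRing_stalk hY p w) hX

end Groth.Agent.H1Res
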