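import Groth.Agent.SymX.ToProjSpace
import Groth.Agent.ProjX.HProj
import Groth.Agent.PnSmooth7.Main
import Groth.Agent.QCoh.LocFree
import Groth.Agent.Lib.CurveEnd

/-!
# The bundle of a finite locally free module is smooth over the base
-/

set_option autoImplicit false
set_option linter.style.haveILetI false
set_option backward.isDefEq.respectTransparency false
set_option backward.isDefEq.respectTransparency.types false
set_option maxHeartbeats 1000000

universe u

open CategoryTheory CategoryTheory.Limits AlgebraicGeometry TopologicalSpace Opposite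
open scoped HomogeneousIdeal
open CohB1 (polyGrading ProjSpace ProjSpaceOver)

noncomputable section

namespace Groth.Agent.H1Res

open Groth.Agent

variable {Y : Scheme.{u}} {E : Y.Modules} (A : SymX.Bundle E) {U : Y.Opens} (hU : IsAffineOpen U)

section empty

theorem isEmpty_proj [Subsingleton Γ(E, U)] : IsEmpty ↥(Proj (A.𝒮.deg U hU)) := by
  let a : Y.AffineZariskiSite := ⟨U, hU⟩
  refine ⟨fun x => x.not_irrelevant_le ?_⟩
  rw [HomogeneousIdeal.irrelevant_le]
  intro d hd z hz
  have h0 : z ∈ A.𝒮.deg U hU 0 := by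
    rw [show z = (A.C.φ a).inv ((A.C.φ a).hom z) from (Iso.hom_inv_id_apply (A.C.φ a) z).symm]
    generalize (A.C.φ a).hom z = w
    induction w using SymmetricAlgebra.induction with
    | algebraMap c =>
      erw [show algebraMap _ (SymmetricAlgebra Γ(Y, a.1) Γ(E, a.1)) c = (A.C.φ a).hom ((A.𝒮.str.app (op a.1)).hom c) from
        congr($(A.C.str a).hom c).symm]
      rw [Iso.hom_inv_id_apply]
      exact A.𝒮.str_mem U hU c
    | ι m =>
      rw [show m = 0 from Subsingleton.elim (α := Γ(E, U)) m 0, map_zero, map_zero]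
      exact zero_mem (A.𝒮.deg U hU 0)
    | mul y z hy hz =>
      rw [map_mul]
      have := SetLike.mul_mem_graded hy hz
      rwa [add_zero] at this
    | add y z hy hz => rw [map_add]; exact add_mem hy hz
  classical
  by_cases hz0 : z = 0
  · subst hz0
    exact zero_mem _
  · exact absurd (DirectSum.degree_eq_of_mem_mem (A.𝒮.deg U hU) hz h0 hz0) hd.ne'

end empty

section basis

variable {r : ℕ} (b : Module.Basis (Fin (r + 1)) Γ(Y, U) Γ(E, U))

/-- The substitution of a basis for the variables. -/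
def basHom : MvPolynomial (Fin (r + 1)) Γ(Y, U) →+* A.𝒮.presheaf.obj (op U) :=
  MvPolynomial.eval₂Hom (A.𝒮.str.app (op U)).hom
    fun j => (show A.𝒮.presheaf.obj (op U) from A.j.app U (b j))

lemma basHom_mem {d : ℕ} {a : MvPolynomial (Fin (r + 1)) Γ(Y, U)}
    (ha : a ∈ polyGrading r Γ(Y, U) d) : basHom A b a ∈ A.𝒮.deg U hU d := by
  rw [MvPolynomial.as_sum a, map_sum]
  refine sum_mem fun m hm => ?_
  have hd : m.degree = d := by
    have := (MvPolynomial.mem_homogeneousSubmodule d a).1 ha (MvPolynomial.mem_support_iff.1 hm)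
    rw [Finsupp.degree_eq_weight_one]; exact this
  subst hd
  let v : Fin (r + 1) → A.𝒮.presheaf.obj (op U) :=
    fun j => (show A.𝒮.presheaf.obj (op U) from A.j.app U (b j))
  have h0 : (A.𝒮.str.app (op U)).hom (a.coeff m) * m.prod (fun j k => v j ^ k) ∈ A.𝒮.deg U hU (0 + m.degree) := by
    refine SetLike.mul_mem_graded (A.𝒮.str_mem U hU _) ?_
    rw [Finsupp.prod, Finsupp.degree]
    refine SetLike.prod_mem_graded _ _ _ fun j _ => ?_
    have := SetLike.pow_mem_graded (m j) (show v j ∈ A.𝒮.deg U hU 1 from A.symAlg.2 U hU _)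
    rwa [smul_eq_mul, mul_one] at this
  rw [zero_add] at h0
  simpa [basHom, v, MvPolynomial.eval₂_monomial] using h0

lemma basHom_bijective (hU : IsAffineOpen U) : Function.Bijective (basHom A b) := by
  let a : Y.AffineZariskiSite := ⟨U, hU⟩
  have key : (A.C.φ a).hom.hom.comp (basHom A b) =
      ((SymmetricAlgebra.equivMvPolynomial b).symm.toAlgHom.toRingHom :
        MvPolynomial (Fin (r + 1)) Γ(Y, U) →+* SymmetricAlgebra Γ(Y, U) Γ(E, U)) := by
    refine MvPolynomial.ringHom_ext (fun c => ?_) fun j => ?_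
    · rw [RingHom.comp_apply, basHom, MvPolynomial.eval₂Hom_C]
      exact (congr($(A.C.str a).hom c)).trans ((SymmetricAlgebra.equivMvPolynomial b).symm.commutes c).symm
    · rw [RingHom.comp_apply, basHom, MvPolynomial.eval₂Hom_X']
      exact (A.C.j_app a (b j)).trans (SymmetricAlgebra.equivMvPolynomial_symm_X b j).symm
  have h : ∀ x, (A.C.φ a).hom (basHom A b x) = (SymmetricAlgebra.equivMvPolynomial b).symm x :=
    fun x => RingHom.congr_fun key x
  have hφ := ConcreteCategory.bijective_of_isIso (A.C.φ a).hom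
  refine ⟨fun x y hxy => (SymmetricAlgebra.equivMvPolynomial b).symm.injective
      ((h x).symm.trans ((congrArg (A.C.φ a).hom hxy).trans (h y))),
    fun z => ?_⟩
  let w : SymmetricAlgebra Γ(Y, U) Γ(E, U) := (A.C.φ a).hom z
  exact ⟨SymmetricAlgebra.equivMvPolynomial b w,
    hφ.1 ((h _).trans ((SymmetricAlgebra.equivMvPolynomial b).symm_apply_apply w))⟩

/-- The substitution as a homomorphism of graded rings. -/
def basGraded : polyGrading r Γ(Y, U) →+*ᵍ A.𝒮.deg U hU :=
  { basHom A b with map_mem := fun ha => basHom_mem A hU b ha }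

lemma basGraded_apply (x : MvPolynomial (Fin (r + 1)) Γ(Y, U)) : basGraded A hU b x = basHom A b x := rfl

/-- The inverse substitution. -/
def basInv : A.𝒮.deg U hU →+*ᵍ polyGrading r Γ(Y, U) :=
  { (RingEquiv.ofBijective (basHom A b) (basHom_bijective A b hU)).symm.toRingHom with
    map_mem := fun {i x} hx => by
      obtain ⟨a, ha, rfl⟩ := Proj16.exists_mem_of_surjective (basGraded A hU b) (basHom_bijective A b hU).2 hx
      show (RingEquiv.ofBijective (basHom A b) (basHom_bijective A b hU)).symm (basHom A b a) ∈ _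
      exact ((RingEquiv.ofBijective (basHom A b) (basHom_bijective A b hU)).symm_apply_apply a).symm ▸ ha }

lemma irrelevant_le_of_surjective {σ τ A' B' : Type u} [CommRing A'] [SetLike σ A'] [AddSubgroupClass σ A']
    [CommRing B'] [SetLike τ B'] [AddSubgroupClass τ B'] {𝒜 : ℕ → σ} [GradedRing 𝒜] {ℬ : ℕ → τ}
    [GradedRing ℬ] (φ : 𝒜 →+*ᵍ ℬ) (hφ : Function.Surjective φ) :
    HomogeneousIdeal.irrelevant ℬ ≤ (HomogeneousIdeal.irrelevant 𝒜).map φ := by
  rw [HomogeneousIdeal.irrelevant_le]
  intro d hd x hx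
  obtain ⟨a, ha, rfl⟩ := Proj16.exists_mem_of_surjective φ hφ hx
  exact Ideal.mem_map_of_mem _ (HomogeneousIdeal.mem_irrelevant_of_mem _ hd ha)

lemma basInv_surjective : Function.Surjective (basInv A hU b) :=
  (RingEquiv.ofBijective (basHom A b) (basHom_bijective A b hU)).symm.surjective

theorem isIso_map : IsIso (Proj.map (basGraded A hU b)
    (irrelevant_le_of_surjective _ (basHom_bijective A b hU).2)) := by
  have e1 : (basGraded A hU b).comp (basInv A hU b) = GradedRingHom.id (A.𝒮.deg U hU) :=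
    GradedRingHom.ext fun x =>
      (RingEquiv.ofBijective (basHom A b) (basHom_bijective A b hU)).apply_symm_apply x
  have e2 : (basInv A hU b).comp (basGraded A hU b) = GradedRingHom.id (polyGrading r Γ(Y, U)) :=
    GradedRingHom.ext fun x =>
      (RingEquiv.ofBijective (basHom A b) (basHom_bijective A b hU)).symm_apply_apply x
  refine ⟨Proj.map (basInv A hU b) (irrelevant_le_of_surjective _ (basInv_surjective A hU b)), ?_, ?_⟩
  · rw [← Proj.map_comp, Proj16.proj_map_congr e1 _ (by simp), Proj.map_id]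
  · rw [← Proj.map_comp, Proj16.proj_map_congr e2 _ (by simp), Proj.map_id]

end basis

/-- The bundle of a finite locally free module is smooth. -/
theorem smooth_bundle (hE : FlatMod.IsFinLocFree E) : Smooth A.p := by
  have hloc : ∀ y : Y, ∃ W : Y.affineOpens, y ∈ W.1 ∧ ∃ n : ℕ,
      Nonempty (Module.Basis (Fin n) Γ(Y, W.1) Γ(E, W.1)) := by
    intro y
    obtain ⟨U, n, hy, ⟨e⟩⟩ := hE y
    obtain ⟨s, hs⟩ := H23.Frame.exists_frame e
    obtain ⟨W, hW, hyW, hWU⟩ := exists_isAffineOpen_mem_and_subset hy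
    exact ⟨⟨W, hW⟩, hyW, n, ⟨CurveEnd.frameBasis E U s hs W hWU⟩⟩
  choose W hy n hb using hloc
  refine IsZariskiLocalAtTarget.of_iSup_eq_top (fun y => (W y).1)
    (top_le_iff.1 fun y _ => Opens.mem_iSup.2 ⟨y, hy y⟩) fun y => ?_
  obtain ⟨b⟩ := hb y
  generalize hU : (W y).2 = hU'
  cases hn : n y with
  | zero =>
    rw [hn] at b
    haveI : Subsingleton Γ(E, (W y).1) := b.equivFun.toEquiv.subsingleton
    haveI := isEmpty_proj A hU'
    haveI : IsEmpty ↥((A.p ⁻¹ᵁ (W y).1 : A.P.Opens) : Scheme.{u}) :=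
      ⟨fun z => IsEmpty.false ((A.chart _ hU').hom.base z)⟩
    infer_instance
  | succ r =>
    rw [hn] at b
    haveI := isIso_map A hU' b
    haveI : Smooth (CohB1.ProjSpaceOver.toBase r Y) := PnSmooth7.smooth_toBase r Y
    haveI : Smooth (CohB1.ProjSpace.toSpec r Γ(Y, (W y).1)) :=
      MorphismProperty.of_isPullback (ProjX.isPullback_chart r hU') inferInstance
    have h : A.p ∣_ (W y).1 = (A.chart _ hU').hom ≫
        Proj.map (basGraded A hU' b) (irrelevant_le_of_surjective _ (basHom_bijective A b hU').2) ≫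
        CohB1.ProjSpace.toSpec r Γ(Y, (W y).1) ≫ hU'.isoSpec.inv := by
      rw [← cancel_mono (W y).1.ι, morphismRestrict_ι, ← A.isRelProj.chart_over _ hU']
      simp only [Category.assoc, IsAffineOpen.isoSpec_inv_ι]
      congr 1
      unfold CohB1.ProjSpace.toSpec
      rw [← Category.assoc (Proj.toSpecZero _), ← Category.assoc (Proj.map _ _)]
      congr 1
      exact (ProjX.map_toSpecZero (R := Γ(Y, (W y).1)) (basGraded A hU' b) _
        (CommRingCat.ofHom (algebraMap Γ(Y, (W y).1) (polyGrading r Γ(Y, (W y).1) 0)))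
        (A.𝒮.strZero _ hU') fun c => MvPolynomial.eval₂Hom_C _ _ c).symm
    rw [h]
    infer_instance

end Groth.Agent.H1Res
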